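import Groth.Agent.SGA3x.K11.QuotOrbit
import Groth.Agent.SGA3x.K10.CenRep
import Groth.Agent.Sga3B.SplitBc264
import Groth.Agent.RedSub.H650.QuotGlue
import Groth.Agent.SGA3x.K20.QAffLoc
import Groth.Agent.Flat2B.MonoRep
import Groth.Agent.AlgGrp.K395.Pts
import Groth.Agent.Sga3C.QuotProps
import Groth.Agent.S3025
import Groth.Agent.S3036
import Groth.Agent.S0115

/-!
# The quotient of a smooth group with connected fibres by its flat centre

* `exists_local`: the quotient by the kernel of a linear representation, over an affine base;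
* `exists_quotient`: the global quotient.
-/

set_option autoImplicit false
set_option maxHeartbeats 400000

universe u

open CategoryTheory MonoidalCategory CartesianMonoidalCategory MonObj GrpObj AlgebraicGeometry Limits

namespace K215.FlatCentre

open Groth.Agent Groth.Agent.Sga3B Groth.Agent.Sga3B.GLn

variable {S : Scheme.{u}}

/-- Quasi-compactness descends along surjections of the source. -/
theorem quasiCompact_of_surjective {X Y Z : Scheme.{u}} (f : X ⟶ Y) (g : Y ⟶ Z) [Surjective f]
    [QuasiCompact (f ≫ g)] : QuasiCompact g := by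
  constructor
  intro U hU hUc
  have h1 := QuasiCompact.isCompact_preimage (f := f ≫ g) U hU hUc
  have h2 : g ⁻¹' U = f '' ((f ≫ g) ⁻¹' U) := by
    ext y
    constructor
    · intro hy
      obtain ⟨x, rfl⟩ := f.surjective y
      exact ⟨x, by rwa [Set.mem_preimage, Scheme.Hom.comp_apply], rfl⟩
    · rintro ⟨x, hx, rfl⟩
      rwa [Set.mem_preimage, Scheme.Hom.comp_apply] at hx
  rw [h2]
  exact h1.image f.continuous

/-- Base change of the centre. -/
theorem isCentre_bc {S' : Scheme.{u}} (f : S' ⟶ S) {G Z : Over S} [GrpObj G] [GrpObj Z] {j : Z ⟶ G}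
    (h : Red.IsCentre j) : Red.IsCentre ((Over.pullback f).map j) := by
  have h1 := SplitBc264.isCentralizerOf_bc f h
  rw [CategoryTheory.Functor.map_id] at h1
  exact h1

/-- A monomorphism into an affine scheme is quasi-affine. -/
theorem isQuasiAffine_mono {X Y : Scheme.{u}} [IsAffine Y] (f : X ⟶ Y) [Mono f] [LocallyOfFiniteType f]
    [QuasiCompact f] : X.IsQuasiAffine := by
  have h := (Flat2B.MonoRep.isQuasiAffine_of_mono f).2 ⊤ (isAffineOpen_top Y)
  have e : ((f ⁻¹ᵁ ⊤ : X.Opens) : Scheme.{u}) ≅ X := X.topIso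
  have hc : CompactSpace X := by
    have := h.toCompactSpace
    exact (Scheme.homeoOfIso e).compactSpace
  exact Scheme.IsQuasiAffine.of_isImmersion e.inv

/-- **The local quotient by the kernel of a linear representation.** -/
theorem exists_local [IsAffine S] {G Z : Over S} [GrpObj G] [GrpObj Z] [Smooth G.hom] [QuasiCompact G.hom]
    [Flat Z.hom] (j : Z ⟶ G) (hZ : Red.IsCentre j) {m : Type u} [Fintype m] [DecidableEq m]
    (ρ : G ⟶ GLS m S) [IsMonHom ρ] (hρ : K10.CenRep.CKer ρ) :
    ∃ (Q : Over S) (q : G ⟶ Q), RedSub.IsQuotient j q ∧ Smooth Q.hom ∧ QuasiCompact Q.hom ∧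
      IsSeparated Q.hom ∧ Q.left.IsQuasiAffine ∧
      ∀ (K : Type u) [Field K] (t : Spec (CommRingCat.of K) ⟶ S), IsAffine (pullback Q.hom t) := by
  obtain ⟨hj1, hj2, hj3⟩ := hZ
  have hker : AlgGrp.IsKernel j ρ := by
    refine K395.Pts.isKernel_of_pts ?_ ?_
    · intro T n
      refine (hρ T (n ≫ j)).2 fun T' t h => ?_
      have h1 := (hj3 T (n ≫ j)).1 ⟨n, rfl⟩ T' t h
      rwa [Category.comp_id] at h1
    · intro T x hx
      refine (hj3 T x).2 fun X' t h => ?_
      rw [Category.comp_id]
      exact (hρ T x).1 hx X' t h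
  obtain ⟨Q, g, q, hq, r, hr, h1, h2, h3, h4, h5, h6, h7⟩ :=
    K11.QuotOrbit.exists_quotient_ker (Or.inl inferInstance) ρ Z j hker
  have hsm : Smooth Q.hom := by
    have : Smooth (q.left ≫ Q.hom) := by rw [Over.w]; infer_instance
    exact Groth.Agent.S0115.result q.left Q.hom
  have hqc : QuasiCompact Q.hom := by
    have : QuasiCompact (q.left ≫ Q.hom) := by rw [Over.w]; infer_instance
    exact quasiCompact_of_surjective q.left Q.hom
  have hrm : Mono r.left := inferInstance
  have hw : r.left ≫ (GLS m S).hom = Q.hom := Over.w r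
  have hsep : IsSeparated Q.hom := by rw [← hw]; infer_instance
  have hlft : LocallyOfFiniteType r.left := by
    have : LocallyOfFiniteType (r.left ≫ (GLS m S).hom) := by rw [hw]; infer_instance
    exact locallyOfFiniteType_of_comp r.left (GLS m S).hom
  have hqc' : QuasiCompact r.left := by
    have : QuasiCompact (r.left ≫ (GLS m S).hom) := by rw [hw]; infer_instance
    exact QuasiCompact.of_comp r.left (GLS m S).hom
  have haff : IsAffine (GLS m S).left := isAffine_of_isAffineHom (GLS m S).hom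
  refine ⟨Q, q, ⟨h2, h3, h4, h7⟩, hsm, hqc, hsep, isQuasiAffine_mono r.left, ?_⟩
  intro K _ t
  let rK := (Over.pullback t).map r
  have hsq := Parab.FibIsoSch.isPullback_map_left t r
  have e1 : Mono rK := inferInstance
  have e2 : IsMonHom rK := inferInstance
  have e3 : QuasiCompact rK.left := MorphismProperty.of_isPullback hsq hqc'
  have e4 : LocallyOfFiniteType ((Over.pullback t).obj Q).hom :=
    inferInstanceAs (LocallyOfFiniteType (pullback.snd Q.hom t))
  have e5 : LocallyOfFiniteType ((Over.pullback t).obj (GLS m S)).hom :=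
    inferInstanceAs (LocallyOfFiniteType (pullback.snd (GLS m S).hom t))
  have e6 : IsAffineHom ((Over.pullback t).obj (GLS m S)).hom :=
    inferInstanceAs (IsAffineHom (pullback.snd (GLS m S).hom t))
  have e7 : IsClosedImmersion rK.left :=
    Groth.Agent.S3036.result K ((Over.pullback t).obj Q) ((Over.pullback t).obj (GLS m S)) rK
  have e8 : IsAffine ((Over.pullback t).obj (GLS m S)).left :=
    isAffine_of_isAffineHom ((Over.pullback t).obj (GLS m S)).hom
  exact isAffine_of_isAffineHom rK.left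

/-- The kernel pair of the quotient by a central subgroup. -/
theorem isPullback_left {G Z Q : Over S} [GrpObj G] [GrpObj Z] (j : Z ⟶ G) (hZ : Red.IsCentre j) (q : G ⟶ Q)
    (h : IsPullback (fst G Z) ((G ◁ j) ≫ μ[G]) q q) : IsPullback ((j ▷ G) ≫ μ[G]) (snd Z G) q q := by
  have hc : (β_ Z G).hom ≫ (G ◁ j) ≫ μ[G] = (j ▷ G) ≫ μ[G] := by
    have h1 := (hZ.2.2 Z j).1 ⟨𝟙 Z, Category.id_comp _⟩ (Z ⊗ G) (fst Z G) (snd Z G)
    rw [Category.comp_id] at h1
    have hm : μ[G] = fst G G * snd G G := by
      rw [Hom.mul_def, lift_fst_snd, Category.id_comp]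
    rw [hm]
    simp only [comp_mul, whiskerLeft_fst, whiskerLeft_snd, braiding_hom_fst, braiding_hom_snd_assoc,
      whiskerRight_fst, whiskerRight_snd]
    exact h1.symm
  refine IsPullback.flip ?_
  refine IsPullback.of_iso h (β_ Z G).symm (Iso.refl _) (Iso.refl _) (Iso.refl _) ?_ ?_ ?_ ?_
  · simp
  · rw [← hc]
    simp
  · simp
  · simp

/-- A central subgroup is normal. -/
theorem isNormalHom {G Z : Over S} [GrpObj G] [GrpObj Z] (j : Z ⟶ G) (hZ : Red.IsCentre j) :
    AlgGrp.IsNormalHom j := by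
  intro T g z
  refine ⟨z, ?_⟩
  have h1 := (hZ.2.2 T (z ≫ j)).1 ⟨z, rfl⟩ T (𝟙 T) g
  rw [Category.id_comp, Category.comp_id] at h1
  rw [← h1, mul_inv_cancel_right]

/-- **The quotient by the flat centre.** -/
theorem exists_quotient (G : Over S) [GrpObj G] [Smooth G.hom] [QuasiCompact G.hom]
    (hconn : ∀ s : S, _root_.IsConnected (G.hom.base ⁻¹' {s}))
    (Z : Over S) [GrpObj Z] (j : Z ⟶ G) (hZ : Red.IsCentre j) [Flat Z.hom] :
    ∃ (Q : Over S) (_ : GrpObj Q) (q : G ⟶ Q) (_ : IsMonHom q), RedSub.IsQuotient j q ∧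
      Smooth Q.hom ∧ QuasiCompact Q.hom ∧ QuasiSeparated Q.hom ∧ Mor2.IsQuasiAffine Q.hom ∧
      (∀ s : S, IsAffine (pullback Q.hom (S.fromSpecResidueField s))) ∧
      (∀ s : S, _root_.IsConnected (Q.hom.base ⁻¹' {s})) := by
  obtain ⟨hsepG, -⟩ := Groth.Agent.S3025.result S G hconn
  have hj1 : IsMonHom j := hZ.1
  have hj2 : Mono j := hZ.2.1
  have key : ∀ s : S, ∃ U : S.Opens, s ∈ U ∧ IsAffineOpen U ∧ ∃ (Q : Over (U : Scheme.{u}))
      (q : Red.bc U.ι G ⟶ Q), RedSub.IsQuotient ((Over.pullback U.ι).map j) q ∧ IsSeparated Q.hom ∧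
      Q.left.IsQuasiAffine ∧
      ∀ (K : Type u) [Field K] (t : Spec (CommRingCat.of K) ⟶ (U : Scheme.{u})),
        IsAffine (pullback Q.hom t) := by
    intro s
    obtain ⟨U, hsU, hU, m, _, _, ρ, hρ, hc⟩ := K10.CenRep.exists_rep_center G hconn s
    have : IsAffine (U : Scheme.{u}) := hU
    have h1 : Smooth (Red.bc U.ι G).hom := inferInstanceAs (Smooth (pullback.snd _ _))
    have h2 : QuasiCompact (Red.bc U.ι G).hom := inferInstanceAs (QuasiCompact (pullback.snd _ _))
    have h3 : Flat ((Over.pullback U.ι).obj Z).hom := inferInstanceAs (Flat (pullback.snd _ _))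
    obtain ⟨Q, q, hq, -, -, h6, h4, h5⟩ := exists_local (G := Red.bc U.ι G) (Z := (Over.pullback U.ι).obj Z)
      ((Over.pullback U.ι).map j) (isCentre_bc U.ι hZ) ρ hc
    exact ⟨U, hsU, hU, Q, q, hq, h6, h4, h5⟩
  choose U hsU hU Q' q' hq' hsp hqa hfib using key
  obtain ⟨Q, q, hq⟩ := RedSub.H650.QuotGlue.exists_quotient_of_local j fun s =>
    ⟨_, (U s).ι, inferInstance, by rw [Scheme.Opens.range_ι]; exact hsU s, Q' s, q' s, hq' s⟩
  obtain ⟨hq1, hq2, hq3, hq4⟩ := id hq
  obtain ⟨gQ, hqm⟩ := Sga3C.QuotProps.exists_grpObj_quotient j q (isPullback_left j hZ q hq4) (isNormalHom j hZ)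
  have hcmp : ∀ s, ∃ e : (Red.bc (U s).ι Q).left ≅ (Q' s).left, e.hom ≫ (Q' s).hom = (Red.bc (U s).ι Q).hom := by
    intro s
    obtain ⟨ε, -⟩ := RedSub.H650.QuotPts.exists_iso (RedSub.H650.QuotPts.isQuotient_bc (U s).ι hq) (hq' s)
    exact ⟨(Over.forget _).mapIso ε, Over.w ε.hom⟩
  have hsm : Smooth Q.hom := by
    have : Smooth (q.left ≫ Q.hom) := by rw [Over.w]; infer_instance
    exact Groth.Agent.S0115.result q.left Q.hom
  have hqc : QuasiCompact Q.hom := by
    have : QuasiCompact (q.left ≫ Q.hom) := by rw [Over.w]; infer_instance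
    exact quasiCompact_of_surjective q.left Q.hom
  have hQA : Mor2.IsQuasiAffine Q.hom := by
    refine K20.QAffLoc.isQuasiAffine_of_etale_affine Q.hom fun s => ?_
    obtain ⟨e, -⟩ := hcmp s
    refine ⟨_, (U s).ι, hU s, inferInstance, by rw [Scheme.Opens.range_ι]; exact hsU s, ?_⟩
    have := hqa s
    have : CompactSpace ↥(pullback Q.hom (U s).ι) := (Scheme.homeoOfIso e).symm.compactSpace
    exact Scheme.IsQuasiAffine.of_isImmersion e.hom
  refine ⟨Q, gQ, q, hqm, hq, hsm, hqc, ?_, hQA, ?_, ?_⟩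
  · have hc : TopologicalSpace.IsOpenCover U :=
      TopologicalSpace.IsOpenCover.mk (top_le_iff.1 fun x _ => TopologicalSpace.Opens.mem_iSup.2 ⟨x, hsU x⟩)
    have h0 : IsSeparated Q.hom := by
      refine IsZariskiLocalAtTarget.of_openCover (P := @IsSeparated) (S.openCoverOfIsOpenCover U hc) fun s => ?_
      obtain ⟨e, he⟩ := hcmp s
      change IsSeparated (pullback.snd Q.hom (U s).ι)
      change e.hom ≫ (Q' s).hom = pullback.snd Q.hom (U s).ι at he
      have := hsp s
      rw [← he]
      infer_instance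
    infer_instance
  · intro s
    obtain ⟨e, he⟩ := hcmp s
    let t : Spec (CommRingCat.of (S.residueField s)) ⟶ (U s : Scheme.{u}) :=
      IsOpenImmersion.lift (U s).ι (S.fromSpecResidueField s) (by
        rw [Scheme.Opens.range_ι, Scheme.range_fromSpecResidueField]
        exact Set.singleton_subset_iff.2 (hsU s))
    have ht : t ≫ (U s).ι = S.fromSpecResidueField s := IsOpenImmersion.lift_fac _ _ _
    have h1 := hfib s (S.residueField s) t
    change e.hom ≫ (Q' s).hom = pullback.snd Q.hom (U s).ι at he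
    let k : pullback (pullback.snd Q.hom (U s).ι) t ⟶ pullback (Q' s).hom t :=
      pullback.map _ _ _ _ e.hom (𝟙 _) (𝟙 _) (by rw [he, Category.comp_id]) (by simp)
    have hk : IsIso k := inferInstance
    have h2 : IsAffine (pullback (pullback.snd Q.hom (U s).ι) t) := .of_isIso k
    have h3 : IsAffine (pullback Q.hom (t ≫ (U s).ι)) :=
      .of_isIso (pullbackLeftPullbackSndIso Q.hom (U s).ι t).inv
    rwa [ht] at h3
  · intro s
    have h1 : Q.hom.base ⁻¹' {s} = q.left.base '' (G.hom.base ⁻¹' {s}) := by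
      ext x
      constructor
      · intro hx
        obtain ⟨y, rfl⟩ := q.left.surjective x
        refine ⟨y, ?_, rfl⟩
        have h2 : q.left ≫ Q.hom = G.hom := Over.w q
        change G.hom y = s
        rw [← h2, Scheme.Hom.comp_apply]
        exact hx
      · rintro ⟨y, hy, rfl⟩
        have h2 : q.left ≫ Q.hom = G.hom := Over.w q
        change Q.hom (q.left y) = s
        rw [← Scheme.Hom.comp_apply, h2]
        exact hy
    rw [h1]
    exact (hconn s).image _ q.left.continuous.continuousOn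

end K215.FlatCentre
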